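import Groth.Agent.AffDual.QCohRHom
import Groth.Agent.Misc4.CohDRHom

/-!
`RHom(-, I)` for a bounded complex of injectives with coherent cohomology preserves coherence.
-/

set_option autoImplicit false

universe u

open CategoryTheory CategoryTheory.Limits AlgebraicGeometry HomologicalComplex

namespace Groth.CohRHomInj

open Groth.AffDual.HighTail

attribute [local instance] HasDerivedCategory.standard

variable {X : Scheme.{u}} [IsNoetherian X] (E : CochainComplex X.Modules ℤ)
  [DCoh.HasLTensorCx E] [DCoh.HasRSheafHom E]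
  (I : CochainComplex X.Modules ℤ) (a b : ℤ) [I.IsStrictlyGE a] [I.IsStrictlyLE b]
  [∀ q, Injective (I.X q)]

include a in
/-- degree `i` only sees a truncation of `E` -/
lemma exists_truncation (N i : ℤ) (hi : b + 1 < i + N) :
    ∃ (_ : DCoh.HasLTensorCx (E.truncLE N)) (_ : DCoh.HasRSheafHom (E.truncLE N)),
      Nonempty (DCoh.HD ((DCoh.RSheafHom E).obj (DCoh.toD X I)) i ≅
        DCoh.HD ((DCoh.RSheafHom (E.truncLE N)).obj (DCoh.toD X I)) i) := by
  let S := E.shortComplexTruncLE N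
  haveI : S.X₃.IsGE (N + 1) := by
    rw [CochainComplex.isGE_iff]
    intro j hj
    obtain ⟨k, hk⟩ := Int.le.dest (show j ≤ N by omega)
    have := E.shortComplexTruncLE_X₃_isSupportedOutside (ComplexShape.embeddingUpIntLE N)
    have h := this.exactAt k
    rwa [show (ComplexShape.embeddingUpIntLE N).f k = j by simp; omega] at h
  haveI := Groth.DerivedCoh.KFlat.hasLTensorCx S.X₁
  haveI := Groth.AffDual.QCohRHom.hasRSheafHom S.X₁
  haveI : DCoh.HasLTensorCx S.X₂ := ‹DCoh.HasLTensorCx E›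
  haveI : DCoh.HasRSheafHom S.X₂ := ‹DCoh.HasRSheafHom E›
  exact ⟨_, _, nonempty_hd_rhom_iso S (E.shortComplexTruncLE_shortExact N) (N + 1) I a b i (by omega)⟩

variable (hE : DCoh.IsCohD (DCoh.toD X E)) (hI : DCoh.IsCohD (DCoh.toD X I))
include hE

lemma isCohD_truncLE (N : ℤ) : DCoh.IsCohD (DCoh.toD X (E.truncLE N)) := fun j => by
  by_cases hj : j ≤ N
  · haveI : QuasiIsoAt (E.ιTruncLE N) j := E.quasiIsoAt_ιTruncLE N j hj
    haveI := (quasiIsoAt_iff_isIso_homologyMap (E.ιTruncLE N) j).1 inferInstance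
    exact Groth.QCohMod.isCoh_of_iso ((DerivedCategory.homologyFunctorFactors X.Modules j).app E ≪≫
      (asIso (HomologicalComplex.homologyMap (E.ιTruncLE N) j)).symm ≪≫
      ((DerivedCategory.homologyFunctorFactors X.Modules j).app _).symm) (hE j)
  · exact Groth.KTheory.isCoh_of_isZero (DerivedCategory.isZero_of_isLE
      (DerivedCategory.Q.obj (E.truncLE N)) N j (by omega))

include a b hI

theorem isCoh_hd (i : ℤ) : Coh.IsCoh (DCoh.HD ((DCoh.RSheafHom E).obj (DCoh.toD X I)) i) := by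
  obtain ⟨_, _, ⟨e⟩⟩ := exists_truncation E I a b (b - i + 2) i (by omega)
  haveI : (DCoh.toD X (E.truncLE (b - i + 2))).IsLE (b - i + 2) :=
    (inferInstance : (DerivedCategory.Q.obj (E.truncLE (b - i + 2))).IsLE (b - i + 2))
  haveI : (DCoh.toD X I).IsGE a := (inferInstance : (DerivedCategory.Q.obj I).IsGE a)
  exact Groth.QCohMod.isCoh_of_iso e.symm
    ((Groth.Misc4.CohDRHom.isCohD_isGE_rhom (E.truncLE (b - i + 2)) (b - i + 2)
      (isCohD_truncLE E hE _) hI a).1 i)

/-- cohomological lower bounds become upper bounds -/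
theorem isZero_hd_of_isGE (c i : ℤ) (hc : ∀ j, j < c → IsZero (DCoh.HD (DCoh.toD X E) j))
    (hi : b + 2 - c < i) : IsZero (DCoh.HD ((DCoh.RSheafHom E).obj (DCoh.toD X I)) i) := by
  obtain ⟨_, _, ⟨e⟩⟩ := exists_truncation E I a b (c - 1) i (by omega)
  let K := E.truncLE (c - 1)
  have hz : ∀ j, IsZero (DCoh.HD (DCoh.toD X K) j) := fun j => by
    by_cases hj : j ≤ c - 1
    · haveI : QuasiIsoAt (E.ιTruncLE (c - 1)) j := E.quasiIsoAt_ιTruncLE (c - 1) j hj
      haveI := (quasiIsoAt_iff_isIso_homologyMap (E.ιTruncLE (c - 1)) j).1 inferInstance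
      let φ := HomologicalComplex.homologyMap (E.ιTruncLE (c - 1)) j
      exact (hc j (by omega)).of_iso ((DerivedCategory.homologyFunctorFactors X.Modules j).app _ ≪≫
        (@asIso _ _ _ _ φ this) ≪≫
        ((DerivedCategory.homologyFunctorFactors X.Modules j).app E).symm)
    · exact DerivedCategory.isZero_of_isLE (DerivedCategory.Q.obj K) (c - 1) j (by omega)
  haveI : (DCoh.toD X K).IsLE (a - i - 1) := (DerivedCategory.isLE_iff _ _).2 fun j _ => hz j
  haveI : (DCoh.toD X I).IsGE a := (inferInstance : (DerivedCategory.Q.obj I).IsGE a)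
  haveI := (Groth.Misc4.CohDRHom.isCohD_isGE_rhom K (a - i - 1) (isCohD_truncLE E hE _) hI a).2
  exact (DerivedCategory.isZero_of_isGE ((DCoh.RSheafHom K).obj (DCoh.toD X I))
    (a - (a - i - 1)) i (by omega)).of_iso e

theorem isZero_hd_of_isLE (c i : ℤ) (hc : ∀ j, c < j → IsZero (DCoh.HD (DCoh.toD X E) j))
    (hi : i < a - c) : IsZero (DCoh.HD ((DCoh.RSheafHom E).obj (DCoh.toD X I)) i) := by
  haveI : (DCoh.toD X E).IsLE c := (DerivedCategory.isLE_iff _ _).2 hc
  haveI : (DCoh.toD X I).IsGE a := (inferInstance : (DerivedCategory.Q.obj I).IsGE a)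
  haveI := (Groth.Misc4.CohDRHom.isCohD_isGE_rhom E c hE hI a).2
  exact DerivedCategory.isZero_of_isGE ((DCoh.RSheafHom E).obj (DCoh.toD X I)) (a - c) i hi

end Groth.CohRHomInj
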